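import Cfsg.Agent.H694.EB.Two
import Cfsg.Agent.H104.EB.COne
import Cfsg.Agent.KFacts.RgdLieCharP

/-!
# TEAM EB [U1]: groups with a filtered root group datum in characteristic two have one block of positive defect
-/

set_option autoImplicit false

namespace Cfsg.Agent.H274.EB

open Cfsg Cfsg.Agent.H694.EB

universe u

theorem centralizer_eq_normalizer {S : Type u} [Group S] {t : S} (ht : orderOf t = 2) :
    Subgroup.centralizer ({t} : Set S) = Subgroup.normalizer (Subgroup.zpowers t : Set S) := by
  have htt : t * t = 1 := by rw [← pow_two, ← ht, pow_orderOf_eq_one]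
  have ht1 : t ≠ 1 := by
    rintro rfl
    rw [orderOf_one] at ht
    exact absurd ht (by decide)
  have hmem : ∀ x, x ∈ Subgroup.zpowers t → x = 1 ∨ x = t := by
    intro x hx
    obtain ⟨k, hk⟩ := Subgroup.mem_zpowers_iff.1 hx
    rcases Int.even_or_odd' k with ⟨m, rfl | rfl⟩
    · left
      rw [← hk, zpow_mul, zpow_two, htt, one_zpow]
    · right
      rw [← hk, zpow_add, zpow_mul, zpow_two, htt, one_zpow, one_mul, zpow_one]
  ext g
  rw [Subgroup.mem_centralizer_singleton_iff, Subgroup.mem_normalizer_iff]
  constructor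
  · intro hg x
    have hgt : g * t * g⁻¹ = t := by rw [hg]; group
    constructor
    · intro hx
      rcases hmem x hx with rfl | rfl
      · rw [mul_one, mul_inv_cancel]; exact one_mem _
      · rw [hgt]; exact hx
    · intro hx
      rcases hmem _ hx with h1 | h1
      · have : x = 1 := by
          have e : x = g⁻¹ * (g * x * g⁻¹) * g := by group
          rw [e, h1]; group
        rw [this]; exact one_mem _
      · have : x = t := by
          have e : x = g⁻¹ * (g * x * g⁻¹) * g := by group
          rw [e, h1]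
          have e2 : g⁻¹ * t * g = g⁻¹ * (g * t * g⁻¹) * g := by rw [hgt]
          rw [e2]; group
        rw [this]; exact Subgroup.mem_zpowers t
  · intro hg
    have h1 := (hg t).1 (Subgroup.mem_zpowers t)
    rcases hmem _ h1 with h2 | h2
    · exfalso
      apply ht1
      have e : t = g⁻¹ * (g * t * g⁻¹) * g := by group
      rw [e, h2]; group
    · have e : g * t = (g * t * g⁻¹) * g := by group
      rw [e, h2]

/-- [U1] -/
theorem dz_of_hasFilt {S : Type u} [Group S] [Finite S] [IsSimpleGroup S] (h : KFacts.RgdFilt.HasFilt 2 S) :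
    DZ S := by
  intro _ M hM χ hχ
  have : Fact (Nat.Prime 2) := ⟨Nat.prime_two⟩
  refine H104.EB.COne.defectZero_of_charTwo hM (fun t ht => ?_) χ hχ
  have hK : IsPGroup 2 (Subgroup.zpowers t) := by
    rw [IsPGroup.iff_card]
    exact ⟨1, by rw [Nat.card_zpowers, ht, pow_one]⟩
  have hK1 : Subgroup.zpowers t ≠ ⊥ := by
    rw [Ne, Subgroup.zpowers_eq_bot]
    rintro rfl
    rw [orderOf_one] at ht
    exact absurd ht (by decide)
  by_cases hc : ∃ a b : S, a * b ≠ b * a
  · rw [centralizer_eq_normalizer ht]
    exact ⟨pCore 2 _, Lib.Cores.pCore_normal 2, Lib.Cores.pCore_isPGroup 2, h.local_char hc hK hK1⟩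
  · push Not at hc
    have hn : (Subgroup.zpowers t).Normal := ⟨fun x hx g => by
      rw [hc g x, mul_assoc, mul_inv_cancel, mul_one]; exact hx⟩
    have htop : Subgroup.zpowers t = ⊤ := (hn.eq_bot_or_eq_top).resolve_left hK1
    have hS : IsPGroup 2 S := by
      have h1 : IsPGroup 2 (⊤ : Subgroup S) := htop ▸ hK
      exact h1.of_equiv Subgroup.topEquiv
    exact ⟨⊤, inferInstance, (hS.to_subgroup _).to_subgroup _, fun _ _ => Subgroup.mem_top _⟩

end Cfsg.Agent.H274.EB
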